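import Cfsg.Agent.SporB.ON.Out.Base

/-!
The scan of the tuples of images of `a, ..., f`.
-/

set_option autoImplicit false
set_option maxRecDepth 100000

namespace Cfsg.Agent.CosetEnum.ON.Out

theorem tup_ok : allRange tupR 0 26 = true := by decide +kernel

end Cfsg.Agent.CosetEnum.ON.Out
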