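import Cfsg.Agent.SporB.ON.Out.Cen
import Cfsg.Agent.SporB.ON.Out.CheckT
import Cfsg.Prelude.Def_KGroupFacts

/-!
The outer automorphism group of the presented O'Nan group has order 2.
-/

set_option autoImplicit false
set_option maxRecDepth 100000

namespace Cfsg.Agent.CosetEnum.ON.Out

open OutData

theorem cen_node {y : Gp} (h : y * hw X = hw X * y) : ∃ k < 3240, y = hw (node k) := card_cen.2 y h

theorem transfer (γ : MulAut Gp) {u v : List ℕ} (h : eqW u v = true) : γ (hw u) = γ (hw v) := by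
  rw [eq_of_eqW h]

theorem X_facts : eqW (repWord X 3) [] = true ∧ neW X [] = true ∧
    eqW (repWord [6, 7] 3) [] = true ∧ neW [6, 7] [] = true ∧
    eqW ([6, 7] ++ X) (X ++ [6, 7]) = true ∧ eqW ([5] ++ X) (X ++ [5]) = true ∧
    eqW ([6] ++ X) (X ++ [6]) = true ∧ eqW ([2] ++ [6, 7]) ([6, 7] ++ [2]) = true ∧
    eqW ([4] ++ [6, 7]) ([6, 7] ++ [4]) = true ∧
    neW [2] [] = true ∧ neW [4] [] = true ∧ neW [5] [] = true ∧ neW [6] [] = true ∧
    eqW [6, 6] [] = true ∧ eqW [5, 5] [] = true ∧ eqW [2, 2] [] = true ∧ eqW [4, 4] [] = true ∧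
    eqW [7] ([6] ++ [6, 7]) = true ∧ eqW [3] ([2] ++ X) = true := by decide +kernel

theorem orderOf_X : orderOf (hw X) = 3 := by
  haveI : Fact (Nat.Prime 3) := ⟨Nat.prime_three⟩
  refine orderOf_eq_prime ?_ (fun e => ne_of_neW X_facts.2.1 (e.trans hw_nil.symm))
  rw [← hw_rep, eq_of_eqW X_facts.1, hw_nil]

theorem orderOf_ef : orderOf (hw [6, 7]) = 3 := by
  haveI : Fact (Nat.Prime 3) := ⟨Nat.prime_three⟩
  refine orderOf_eq_prime ?_ (fun e => ne_of_neW X_facts.2.2.2.1 (e.trans hw_nil.symm))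
  rw [← hw_rep, eq_of_eqW X_facts.2.2.1, hw_nil]

/-- An element of order 3 of the centraliser of `ab` is conjugate to a root. -/
theorem to_root3 {y : Gp} (hc : y * hw X = hw X * y) (h3 : orderOf y = 3) :
    ∃ c : Gp, c * hw X = hw X * c ∧ ∃ r < 26, c * y * c⁻¹ = hw (node (rootN.getD r 0)) := by
  obtain ⟨k, hk, rfl⟩ := cen_node hc
  have h := getR ord3_ok hk
  rw [ord3At] at h
  simp only [forceNat_eq, Bool.or_eq_true, Bool.and_eq_true] at h
  rcases h with (h | h) | h
  · exact absurd (by rw [hw_rep, hw_nil, ← h3, pow_orderOf_eq_one]) (ne_of_neW h)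
  · rw [eq_of_eqW h, hw_nil, orderOf_one] at h3
    exact absurd h3 (by norm_num)
  · set p := classx.get 20 k with hp
    refine ⟨hw (node (p % 4096)), node_comm _, p / 4096, Nat.le_of_ble_eq_true h.1.1, ?_⟩
    rw [← eq_of_eqW h.2, hw_conj']
    group

theorem root_conj {r : ℕ} (hr : r < 26) :
    hw (tY r) = hw (rootU.getD r []) * hw X * (hw (rootU.getD r []))⁻¹ := by
  rw [tY, eq_of_eqW (getR roots_ok hr), hw_conj]

/-- There is one class of elements of order 3. -/
theorem conj_X {y : Gp} (h3 : orderOf y = 3) : ∃ g : Gp, g * y * g⁻¹ = hw X := by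
  haveI := finite
  haveI : Fact (Nat.Prime 3) := ⟨Nat.prime_three⟩
  set C := Subgroup.centralizer ({hw X} : Set Gp) with hC
  have hp : IsPGroup 3 (Subgroup.zpowers y) :=
    IsPGroup.of_card (n := 1) (by rw [Nat.card_zpowers, h3, pow_one])
  have hnd : ¬ 3 ∣ Nat.card (Gp ⧸ C) := by
    have h := Subgroup.card_mul_index C
    rw [hC, card_cen.1, card_eq, ← hC] at h
    rw [← Subgroup.index_eq_card]
    omega
  obtain ⟨q, hq⟩ := hp.nonempty_fixed_point_of_prime_not_dvd_card (Gp ⧸ C) hnd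
  obtain ⟨g, rfl⟩ := QuotientGroup.mk_surjective q
  have hy : (y * g)⁻¹ * g ∈ C := QuotientGroup.eq.1 (hq ⟨y, Subgroup.mem_zpowers y⟩)
  have hy' : g⁻¹ * y * g ∈ C := by
    have := inv_mem hy
    rwa [mul_inv_rev, inv_inv, ← mul_assoc] at this
  rw [hC, Subgroup.mem_centralizer_singleton_iff] at hy'
  obtain ⟨c, -, r, hr, hcr⟩ := to_root3 hy' (by
    rw [← h3]
    have : g⁻¹ * y * g = MulAut.conj g⁻¹ y := by simp
    rw [this, MulEquiv.orderOf_eq])
  rw [show node (rootN.getD r 0) = tY r from rfl, root_conj hr] at hcr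
  refine ⟨(hw (rootU.getD r []))⁻¹ * c * g⁻¹, ?_⟩
  calc _ = (hw (rootU.getD r []))⁻¹ * (c * (g⁻¹ * y * g) * c⁻¹) * hw (rootU.getD r []) := by group
    _ = _ := by rw [hcr]; group

theorem inv_list {y : Gp} (hc : y * hw X = hw X * y) (h2 : y * y = 1) (h1 : y ≠ 1) :
    ∃ i < 45, y = hw (tI i) := by
  obtain ⟨k, hk, rfl⟩ := cen_node hc
  have h := getR inv_ok hk
  rw [invAt] at h
  simp only [Bool.or_eq_true] at h
  rcases h with (h | h) | h
  · exact absurd (by rw [hw_append, hw_nil, h2]) (ne_of_neW h)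
  · exact absurd (by rw [eq_of_eqW h, hw_nil]) h1
  · rw [List.any_eq_true] at h
    obtain ⟨m, hm, he⟩ := h
    obtain ⟨i, hi, rfl⟩ := List.getElem_of_mem hm
    refine ⟨i, (show invN.length = 45 by decide +kernel) ▸ hi, ?_⟩
    rw [tI, List.getD_eq_getElem _ _ hi, ← Nat.eq_of_beq_eq_true he]

theorem map_word (γ : MulAut Gp) : ∀ W : List ℕ, γ (hw W) = evalWord (fun l => γ (val l)) W
  | [] => map_one γ
  | l :: W => by
    show γ (val l * hw W) = γ (val l) * _
    rw [map_mul, map_word γ W]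

theorem evalWord_congr {v v' : ℕ → Gp} : ∀ {W : List ℕ}, (∀ l ∈ W, v l = v' l) →
    evalWord v W = evalWord v' W
  | [], _ => rfl
  | l :: W, h => by
    show v l * evalWord v W = v' l * evalWord v' W
    rw [h l List.mem_cons_self, evalWord_congr fun x hx => h x (List.mem_cons_of_mem _ hx)]

theorem map_subst (γ : MulAut Gp) {σ : List (List ℕ)} {W : List ℕ}
    (h : ∀ l ∈ W, γ (val l) = hw (σ.getD l [])) : γ (hw W) = hw (subst σ W) := by
  rw [map_word, hw_subst]
  exact evalWord_congr h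

/-- An automorphism agrees on `a, ..., f`, up to inner ones, with the identity or with the outer substitution. -/
theorem classify (α : MulAut Gp) : ∃ h : Gp, ∃ b : Bool, ∀ l, 2 ≤ l → l < 8 →
    (MulAut.conj h * α) (val l) = hw ((bif b then sigO else selW).getD l []) := by
  obtain ⟨f1, f2, f3, f4, f5, f6, f7, f8, f9, f10, f11, f12, f13, f14, f15, f16, f17, f18, f19⟩ := X_facts
  obtain ⟨g₁, hg₁⟩ := conj_X ((MulEquiv.orderOf_eq α (hw X)).trans orderOf_X)
  set β := MulAut.conj g₁ * α with hβ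
  have hβX : β (hw X) = hw X := hg₁
  have hβef : β (hw [6, 7]) * hw X = hw X * β (hw [6, 7]) := by
    have := transfer β f5
    rwa [hw_append, hw_append, map_mul, map_mul, hβX] at this
  obtain ⟨c, hc, r, hr, hcr⟩ := to_root3 hβef ((MulEquiv.orderOf_eq β _).trans orderOf_ef)
  set δ₀ := MulAut.conj c * β with hδ₀
  have hX₀ : δ₀ (hw X) = hw X := by
    show c * β (hw X) * c⁻¹ = _
    rw [hβX, hc, mul_inv_cancel_right]
  have hY₀ : δ₀ (hw [6, 7]) = hw (tY r) := hcr
  have hR := getR tup_ok hr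
  rw [tupR, Bool.and_eq_true] at hR
  obtain ⟨e₁, he₁, eE₁⟩ := inv_list (y := δ₀ (hw [6]))
    (by rw [← hX₀, ← map_mul, ← map_mul, ← hw_append, ← hw_append, eq_of_eqW f7])
    (by rw [← map_mul, ← hw_append, show hw ([6] ++ [6]) = 1 from (eq_of_eqW f14).trans hw_nil, map_one])
    (fun e => ne_of_neW f13 ((δ₀.injective (e.trans (map_one δ₀).symm)).trans hw_nil.symm))
  have hRed := getR hR.1 he₁
  simp only [redAt, forceNat_eq, Bool.or_eq_true, Bool.and_eq_true] at hRed
  replace hRed := hRed.resolve_left fun h => by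
    apply ne_of_neW h
    rw [List.append_assoc (tI e₁ ++ tY r), hw_append, hw_append, ← eE₁, ← hY₀, ← map_mul, ← map_mul,
      ← hw_append, ← hw_append, hw_nil]
    rw [show hw (([6] ++ [6, 7]) ++ ([6] ++ [6, 7])) = 1 by
      rw [hw_append, ← eq_of_eqW f18, ← hw_append]; exact rel_one _ (by decide), map_one]
  obtain ⟨⟨-, hqY⟩, hqE⟩ := hRed
  set q := hw (node (redx.get 12 (r * 45 + e₁))) with hq
  have hqY' : q * hw (tY r) = hw (tY r) * q := by
    have := eq_of_eqW hqY
    rwa [hw_append, hw_append] at this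
  set δ := MulAut.conj q⁻¹ * δ₀ with hδ
  have hδX : δ (hw X) = hw X := by
    show q⁻¹ * δ₀ (hw X) * q⁻¹⁻¹ = _
    rw [hX₀, inv_inv, mul_assoc, ← node_comm, inv_mul_cancel_left]
  have hδY : δ (hw [6, 7]) = hw (tY r) := by
    show q⁻¹ * δ₀ (hw [6, 7]) * q⁻¹⁻¹ = _
    rw [hY₀, inv_inv, mul_assoc, ← hqY', inv_mul_cancel_left]
  have eE : δ (hw [6]) = hw (tI (e0L.getD r 0)) := by
    show q⁻¹ * δ₀ (hw [6]) * q⁻¹⁻¹ = _
    rw [eE₁, inv_inv, ← eq_of_eqW hqE, hw_conj']
  have hcomm : ∀ u v, eqW (u ++ v) (v ++ u) = true → δ (hw u) * δ (hw v) = δ (hw v) * δ (hw u) := by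
    intro u v h
    have := transfer δ h
    rwa [hw_append, hw_append, map_mul, map_mul] at this
  have hsq : ∀ l, eqW [l, l] [] = true → δ (hw [l]) * δ (hw [l]) = 1 := by
    intro l hl
    rw [← map_mul, ← hw_append]
    exact (transfer δ hl).trans (map_one δ)
  have hne : ∀ l, neW [l] [] = true → δ (hw [l]) ≠ 1 := by
    intro l hl e
    exact ne_of_neW hl (δ.injective (e.trans (map_one δ).symm))
  set u := hw (rootU.getD r []) with hu
  have hY : hw (tY r) = u * hw X * u⁻¹ := root_conj hr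
  obtain ⟨id', hid, eD⟩ := inv_list (y := δ (hw [5]))
    (by simpa [hδX] using hcomm _ _ f6) (hsq 5 f15) (hne 5 f12)
  have hconjY : ∀ y : Gp, y * hw (tY r) = hw (tY r) * y → y * y = 1 → y ≠ 1 →
      ∃ i < 45, y = hw (tU r i) := by
    intro y h1 h2 h3
    obtain ⟨i, hi, e⟩ := inv_list (y := u⁻¹ * y * u)
      (by
        rw [hY] at h1
        calc u⁻¹ * y * u * hw X = u⁻¹ * (y * (u * hw X * u⁻¹)) * u := by group
          _ = _ := by rw [h1]; group)
      (by calc _ = u⁻¹ * (y * y) * u := by group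
            _ = _ := by rw [h2]; group)
      (fun e => h3 (by
        calc y = u * (u⁻¹ * y * u) * u⁻¹ := by group
          _ = 1 := by rw [e]; group))
    refine ⟨i, hi, ?_⟩
    rw [tU, hw_conj, ← hu, ← e]
    group
  obtain ⟨ia, hia, eA⟩ := hconjY (δ (hw [2]))
    (by simpa [hδY] using hcomm _ _ f8) (hsq 2 f16) (hne 2 f10)
  obtain ⟨ic, hic, eC⟩ := hconjY (δ (hw [4]))
    (by simpa [hδY] using hcomm _ _ f9) (hsq 4 f17) (hne 4 f11)
  set ie := e0L.getD r 0 with hie
  set σ := sigT r ie id' ia ic with hσ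
  have hσl : ∀ l, 2 ≤ l → l < 8 → δ (val l) = hw (σ.getD l []) := by
    intro l h2 h8
    rw [← hw_single]
    interval_cases l
    · exact eA
    · rw [eq_of_eqW f19, hw_append, map_mul, eA, hδX]
      exact (hw_append _ _).symm
    · exact eC
    · exact eD
    · exact eE
    · rw [eq_of_eqW f18, hw_append, map_mul, eE, hδY]
      exact (hw_append _ _).symm
  have hrel : ∀ W ∈ relsH, hw (subst σ W) = 1 := by
    intro W hW
    have hd : ∀ W ∈ relsH, W ∈ relsAll ∧ ∀ l ∈ W, 2 ≤ l ∧ l < 8 := by decide +kernel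
    rw [← map_subst δ fun l hl => hσl l ((hd W hW).2 l hl).1 ((hd W hW).2 l hl).2,
      show hw W = 1 from rel_one W (hd W hW).1, map_one]
  have sA : subst σ [2] = tU r ia := List.append_nil _
  have hE := hR.2
  rw [Bool.or_eq_true] at hE
  have hef : ∀ n, 2 ≤ n → n < 8 → δ (hw [n]) = hw (σ.getD n []) := fun n h2 h8 => by
    rw [hw_single]; exact hσl n h2 h8
  replace hE := hE.resolve_left fun h => by
    apply ne_of_neW h
    rw [List.append_assoc (tI ie ++ tY r), hw_append, show tI ie ++ tY r = σ.getD 7 [] from rfl,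
      ← hef 7 (by norm_num) (by norm_num), ← map_mul, ← hw_append, show hw ([7] ++ [7]) = 1 from
        rel_one _ (by decide), map_one, hw_nil]
  have hD := getR hE hid
  rw [tupD, Bool.or_eq_true, Bool.or_eq_true] at hD
  replace hD := hD.resolve_left fun h => by
    rcases h with h | h <;> apply ne_of_neW h
    · rw [List.append_assoc (tI id' ++ _), hw_append, hw_nil]
      rw [show tI id' ++ (tI ie ++ tY r) = subst σ [5, 7] by simp [subst, σ, sigT], ← hw_append,
        show subst σ [5, 7] ++ subst σ [5, 7] = subst σ [5, 7, 5, 7] by simp [subst]]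
      exact hrel _ (by decide)
    · rw [hw_nil]
      rw [show repWord (tI id' ++ tI ie) 3 = subst σ [5, 6, 5, 6, 5, 6] by
        simp [subst, σ, sigT, repWord]]
      exact hrel _ (by decide)
  have hA := getR hD hia
  rw [tupA, Bool.or_eq_true, Bool.or_eq_true, Bool.or_eq_true] at hA
  replace hA := hA.resolve_left fun h => by
    rcases h with (h | h) | h <;> apply ne_of_neW h <;> rw [hw_nil]
    · rw [List.append_assoc (tU r ia ++ X), hw_append, show tU r ia ++ X = σ.getD 3 [] from rfl,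
        ← hef 3 (by norm_num) (by norm_num), ← map_mul, ← hw_append,
        show hw ([3] ++ [3]) = 1 from rel_one _ (by decide), map_one]
    · rw [show tU r ia ++ tI id' ++ tU r ia ++ tI id' = subst σ [2, 5, 2, 5] by
        simp [subst, σ, sigT]]
      exact hrel _ (by decide)
    · rw [show tU r ia ++ tI ie ++ tU r ia ++ tI ie = subst σ [2, 6, 2, 6] by
        simp [subst, σ, sigT]]
      exact hrel _ (by decide)
  have hC := getR hA hic
  rw [tupC, Bool.or_eq_true, Bool.or_eq_true] at hC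
  replace hC := hC.resolve_left fun h => by
    rcases h with h | h
    · apply ne_of_neW h
      have e : hw (tU r ia ++ tU r ic ++ tU r ia ++ tU r ic) = 1 := by
        rw [show tU r ia ++ tU r ic ++ tU r ia ++ tU r ic = subst σ [2, 4, 2, 4] by
          simp [subst, σ, sigT]]
        exact hrel _ (by decide)
      simp only [tU, hw_append, hw_inv, ← hu] at e
      simp only [hw_append, hw_nil]
      calc _ = u⁻¹ * (u * hw (tI ia) * u⁻¹ * (u * hw (tI ic) * u⁻¹) * (u * hw (tI ia) * u⁻¹) *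
            (u * hw (tI ic) * u⁻¹)) * u := by group
        _ = _ := by rw [e]; group
    · rw [List.any_eq_true] at h
      obtain ⟨W, hW, hne'⟩ := h
      exact ne_of_neW hne' (by rw [hw_nil]; exact hrel W hW)
  rw [witAt, List.any_eq_true] at hC
  obtain ⟨p, -, hp⟩ := hC
  simp only [Bool.and_eq_true] at hp
  refine ⟨(hw (node p.2.1))⁻¹ * q⁻¹ * c * g₁, p.2.2, fun l h2 h8 => ?_⟩
  rw [map_mul, map_mul, map_mul, mul_assoc, mul_assoc, mul_assoc, ← hβ, ← hδ₀, ← hδ, MulAut.mul_apply, hσl l h2 h8,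
    MulAut.conj_apply, inv_inv]
  have := eq_of_eqW (allRange_spec hp.2 l h2 (by omega))
  rwa [hw_conj'] at this

theorem T_facts : neW [5] [] = true ∧
    ([X, [5], [6]] : List (List ℕ)).all (fun W => okW (T ++ W ++ iw T) &&
      Nat.beq (Rep.go (T ++ W ++ iw T) 0) 0) = true ∧ Nat.beq (Rep.go T 0) 6 = true ∧
    eqW (repWord (T ++ [3, 4, 5]) 6) [] = true ∧ eqW (repWord (T ++ [4, 5, 6]) 8) [] = true := by
  decide +kernel

/-- An automorphism fixing `a, ..., f` is trivial. -/
theorem eq_one_of_fix (ε : MulAut Gp) (h : ∀ l, 2 ≤ l → l < 8 → ε (val l) = val l) : ε = 1 := by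
  let L : Subgroup Gp := MonoidHom.eqLocus ε.toMonoidHom (MonoidHom.id Gp)
  have hL : H ≤ L := by
    rw [H, Glue.gsub, Subgroup.closure_le]
    intro g hg
    obtain ⟨l, hl, rfl⟩ := List.mem_map.mp hg
    exact h l ((by decide : ∀ l ∈ selH, 2 ≤ l) l hl) (selH_lt l hl)
  have hfix : ∀ W, (∀ l ∈ W, 2 ≤ l ∧ l < 8) → ε (hw W) = hw W := fun W hW => by
    rw [map_word]
    exact evalWord_congr fun l hl => h l (hW l hl).1 (hW l hl).2
  set z := (hw T)⁻¹ * ε (hw T) with hz
  have hzT : ε (hw T) = hw T * z := by rw [hz, mul_inv_cancel_left]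
  obtain ⟨-, hconj, hT6, hp6, hp8⟩ := T_facts
  have hcm : ∀ W ∈ ([X, [5], [6]] : List (List ℕ)), z * hw W = hw W * z := by
    intro W hW
    have hW8 : ∀ l ∈ W, 2 ≤ l ∧ l < 8 :=
      (by decide : ∀ W ∈ ([X, [5], [6]] : List (List ℕ)), ∀ l ∈ W, 2 ≤ l ∧ l < 8) W hW
    rw [List.all_eq_true] at hconj
    have hh := hconj W hW
    rw [Bool.and_eq_true] at hh
    have hmem : hw (T ++ W ++ iw T) ∈ stab := by
      rw [mem_stab]
      have := hom_go (okW_spec hh.1) 0
      rw [show ((0 : Pt) : ℕ) = 0 from rfl, Nat.eq_of_beq_eq_true hh.2] at this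
      exact ((Equiv.Perm.inv_eq_iff_eq).1 (Fin.ext this)).symm
    have he : ε (hw (T ++ W ++ iw T)) = hw (T ++ W ++ iw T) := hL (H_stab.1 ▸ hmem)
    rw [hw_conj, map_mul, map_mul, map_inv, hfix W hW8, hzT] at he
    calc z * hw W = (hw T)⁻¹ * (hw T * z * hw W * (hw T * z)⁻¹) * (hw T * z) := by group
      _ = _ := by rw [he]; group
  obtain ⟨k, hk, ek⟩ := cen_node (hcm X (by decide))
  have hf := getR fix_ok hk
  simp only [fixAt, Bool.or_eq_true] at hf
  have hz1 : z = 1 := by
    rcases hf with (((hf | hf) | hf) | hf) | hf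
    · exact absurd (by rw [hw_append, hw_append, ← ek]; exact hcm _ (by decide)) (ne_of_neW hf)
    · exact absurd (by rw [hw_append, hw_append, ← ek]; exact hcm _ (by decide)) (ne_of_neW hf)
    · refine absurd ?_ (ne_of_neW hf)
      have := congrArg ε (eq_of_eqW hp6)
      rw [hw_rep, hw_append, map_pow, map_mul, hzT, hfix [3, 4, 5] (by decide), hw_nil, map_one] at this
      rw [hw_rep, hw_append, hw_append, ← ek, this, hw_nil]
    · refine absurd ?_ (ne_of_neW hf)
      have := congrArg ε (eq_of_eqW hp8)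
      rw [hw_rep, hw_append, map_pow, map_mul, hzT, hfix [4, 5, 6] (by decide), hw_nil, map_one] at this
      rw [hw_rep, hw_append, hw_append, ← ek, this, hw_nil]
    · rw [ek, eq_of_eqW hf, hw_nil]
  have hTL : hw T ∈ L := by
    show ε (hw T) = hw T
    rw [hzT, hz1, mul_one]
  have hTH : hw T ∉ H := by
    intro hm
    rw [H_stab.1, mem_stab] at hm
    have := hom_go (okW_spec (show okW T = true from rfl)) 0
    rw [show ((0 : Pt) : ℕ) = 0 from rfl, Nat.eq_of_beq_eq_true hT6, show evalWord val T = hw T from rfl,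
      (Equiv.Perm.inv_eq_iff_eq).2 hm.symm] at this
    exact absurd this (by norm_num)
  have htop : L = ⊤ := (maximal L hL).resolve_left fun e => hTH (e ▸ hTL)
  ext g
  exact show g ∈ L from htop ▸ Subgroup.mem_top g

theorem sig_ok : relsAll.all (fun W => eqW (subst sigO W) []) = true ∧
    eqW (sigO.getD 1 []) (iw (sigO.getD 0 [])) = true ∧
    (∀ W ∈ relsAll, ∀ l ∈ W, l < 8) ∧
    neW (subst sigO X) [] = true := by decide +kernel

/-- The images of the generators under the outer substitution. -/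
noncomputable def vOut : Cfsg.Spor.ON.Gen → Gp
  | .g => hw (sigO.getD 0 [])
  | .a => hw (sigO.getD 2 [])
  | .b => hw (sigO.getD 3 [])
  | .c => hw (sigO.getD 4 [])
  | .d => hw (sigO.getD 5 [])
  | .e => hw (sigO.getD 6 [])
  | .f => hw (sigO.getD 7 [])

theorem lets_vOut {l : ℕ} (hl : l < 8) : lets vOut l = hw (sigO.getD l []) := by
  interval_cases l
  pick_goal 2
  · rw [eq_of_eqW sig_ok.2.1, hw_inv]
    rfl
  all_goals rfl

/-- The outer substitution as an endomorphism. -/
noncomputable def outHom : Gp →* Gp :=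
  PresentedGroup.toGroup (kills vOut fun W hW => by
    have h := sig_ok.1
    rw [List.all_eq_true] at h
    have e := eq_of_eqW (h W hW)
    rw [hw_subst, hw_nil] at e
    rw [← e]
    exact evalWord_congr fun l hl => lets_vOut (sig_ok.2.2.1 W hW l hl))

theorem outHom_val {l : ℕ} (hl : l < 8) : outHom (val l) = hw (sigO.getD l []) := by
  rw [← lets_vOut hl]
  interval_cases l
  pick_goal 2
  · exact (map_inv outHom _).trans (congrArg _ (PresentedGroup.toGroup.of _))
  all_goals exact PresentedGroup.toGroup.of _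

theorem outHom_bijective : Function.Bijective outHom := by
  haveI := finite
  haveI := simple
  have hinj : Function.Injective outHom := by
    rw [← MonoidHom.ker_eq_bot_iff]
    refine (IsSimpleGroup.eq_bot_or_eq_top_of_normal _ (MonoidHom.normal_ker outHom)).resolve_right ?_
    intro h
    have hm : hw X ∈ outHom.ker := h ▸ Subgroup.mem_top _
    have e : outHom (hw X) = hw (subst sigO X) := by
      rw [hw_subst, show hw X = val 2 * (val 3 * 1) from rfl, map_mul, map_mul, map_one,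
        outHom_val (by norm_num), outHom_val (by norm_num)]
      rfl
    rw [MonoidHom.mem_ker, e] at hm
    exact ne_of_neW sig_ok.2.2.2 (hm.trans hw_nil.symm)
  exact ⟨hinj, Finite.injective_iff_surjective.1 hinj⟩

/-- The outer automorphism. -/
noncomputable def outAut : MulAut Gp := MulEquiv.ofBijective outHom outHom_bijective

theorem outAut_val {l : ℕ} (hl : l < 8) : outAut (val l) = hw (sigO.getD l []) := outHom_val hl

theorem outAut_not_inn : outAut ∉ Inn Gp := by
  rintro ⟨g, hg⟩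
  have hgl : ∀ l < 8, g * val l * g⁻¹ = hw (sigO.getD l []) := fun l hl => by
    rw [← outAut_val hl, ← hg]; rfl
  have hX : g * hw X * g⁻¹ = hw X := by
    rw [show hw X = val 2 * (val 3 * 1) from rfl]
    calc g * (val 2 * (val 3 * 1)) * g⁻¹ = (g * val 2 * g⁻¹) * ((g * val 3 * g⁻¹) * 1) := by group
      _ = hw (subst sigO X) := by
        rw [hgl 2 (by norm_num), hgl 3 (by norm_num), hw_subst]
        rfl
      _ = _ := eq_of_eqW (by decide +kernel : eqW (subst sigO X) X = true)
  obtain ⟨k, hk, rfl⟩ := cen_node (mul_inv_eq_iff_eq_mul.1 hX)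
  have h := getR out_ok hk
  rw [outAt, List.any_eq_true] at h
  obtain ⟨l, hl, hne⟩ := h
  refine ne_of_neW hne ?_
  rw [hw_conj, hw_single]
  exact hgl l (List.mem_range.1 hl)

theorem inn_or (α : MulAut Gp) : α ∈ Inn Gp ∨ ∃ i ∈ Inn Gp, α = i * outAut := by
  obtain ⟨h, b, hb⟩ := classify α
  cases b with
  | false =>
    left
    have e : MulAut.conj h * α = 1 := eq_one_of_fix _ fun l h2 h8 => by
      rw [hb l h2 h8]
      interval_cases l <;> exact hw_single _
    rw [eq_inv_of_mul_eq_one_right e]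
    exact (Inn Gp).inv_mem ⟨h, rfl⟩
  | true =>
    right
    have e : outAut⁻¹ * (MulAut.conj h * α) = 1 := eq_one_of_fix _ fun l h2 h8 => by
      rw [MulAut.mul_apply, hb l h2 h8, show hw ((bif true then sigO else selW).getD l []) = outAut (val l)
        from (outAut_val h8).symm]
      exact MulAut.inv_apply_self _ outAut _
    refine ⟨(MulAut.conj h)⁻¹, (Inn Gp).inv_mem ⟨h, rfl⟩, ?_⟩
    rw [show outAut = MulAut.conj h * α from inv_mul_eq_one.1 e, inv_mul_cancel_left]

theorem card_out : Nat.card (Out Gp) = 2 := by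
  show (Inn Gp).index = 2
  refine Subgroup.index_eq_two_iff.2 ⟨outAut, fun b => ?_⟩
  rcases inn_or b with hb | ⟨i, hi, hbe⟩
  · exact Or.inr ⟨hb, fun hbo => outAut_not_inn (by simpa using (Inn _).mul_mem ((Inn _).inv_mem hb) hbo)⟩
  · refine Or.inl ⟨?_, fun hb => outAut_not_inn ?_⟩
    · rcases inn_or (b * outAut) with h | ⟨j, hj, e⟩
      · exact h
      · exfalso
        have hbj : b = j := mul_right_cancel e
        rw [hbj] at hbe
        exact outAut_not_inn (by
          simpa [hbe] using (Inn _).mul_mem ((Inn _).inv_mem hi) hj)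
    · have := (Inn _).mul_mem ((Inn _).inv_mem hi) hb
      rwa [hbe, inv_mul_cancel_left] at this

end Cfsg.Agent.CosetEnum.ON.Out
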