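import Cfsg.Agent.SporB.ON.Sub.Keys
import Cfsg.Agent.SporB.ON.Out.Data

/-!
Words and checks for the automorphisms of the presented O'Nan group.
-/

set_option autoImplicit false
set_option maxRecDepth 100000

namespace Cfsg.Agent.CosetEnum.ON.Out

open OutData

/-- The value of a word. -/
def hw (W : List ℕ) : Gp := evalWord val W

/-- The inverse word. -/
def iw (W : List ℕ) : List ℕ := W.reverse.map Rep.linv

/-- All letters are valid. -/
def okW (W : List ℕ) : Bool := W.all fun l => Nat.blt l 8

/-- The key of a word. -/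
noncomputable def wkey (W : List ℕ) : ℕ := Sub.run Sub.base W

/-- Equality of words. -/
noncomputable def eqW (u v : List ℕ) : Bool := okW u && okW v && Nat.beq (wkey u) (wkey v)

/-- Inequality of words. -/
noncomputable def neW (u v : List ℕ) : Bool := okW u && okW v && !Nat.beq (wkey u) (wkey v)

theorem hw_append (u v : List ℕ) : hw (u ++ v) = hw u * hw v := evalWord_append _ u v

theorem hw_nil : hw [] = 1 := rfl

theorem hw_single (l : ℕ) : hw [l] = val l := mul_one _

theorem hw_rep (u : List ℕ) (m : ℕ) : hw (repWord u m) = hw u ^ m := evalWord_repWord _ u m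

theorem sq_val {l : ℕ} (h1 : 2 ≤ l) (h2 : l < 8) : val l * val l = 1 := by
  have h : evalWord val [l, l] = 1 := rel_one [l, l] (by interval_cases l <;> decide)
  simpa [evalWord] using h

theorem val_linv (l : ℕ) : val (Rep.linv l) = (val l)⁻¹ := by
  rcases Nat.lt_or_ge l 8 with h | h
  · interval_cases l
    · rfl
    · exact (inv_inv _).symm
    all_goals exact (inv_eq_of_mul_eq_one_right (sq_val (by decide) (by decide))).symm
  · obtain ⟨k, rfl⟩ := Nat.exists_eq_add_of_le h
    have e : Rep.linv (8 + k) = 8 + k := by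
      rw [show 8 + k = k + 6 + 1 + 1 by omega]; rfl
    have v1 : val (8 + k) = 1 := by
      rw [val, lets, List.getD_eq_default _ _ (by simp)]
    rw [e, v1, inv_one]

theorem hw_inv : ∀ W : List ℕ, hw (iw W) = (hw W)⁻¹
  | [] => inv_one.symm
  | l :: W => by
    rw [show iw (l :: W) = iw W ++ [Rep.linv l] by simp [iw], hw_append, hw_inv W, hw_single, val_linv]
    exact (mul_inv_rev _ _).symm

theorem hw_conj (u W : List ℕ) : hw (u ++ W ++ iw u) = hw u * hw W * (hw u)⁻¹ := by
  rw [hw_append, hw_append, hw_inv]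

theorem hw_conj' (u W : List ℕ) : hw (iw u ++ W ++ u) = (hw u)⁻¹ * hw W * hw u := by
  rw [hw_append, hw_append, hw_inv]

theorem okW_spec {W : List ℕ} (h : okW W = true) : ∀ l ∈ W, l < 8 := by
  intro l hl
  rw [okW, List.all_eq_true] at h
  exact Nat.le_of_ble_eq_true (h l hl)

theorem wkey_eq {W : List ℕ} (h : okW W = true) : wkey W = Sub.key (hw W) := Sub.run_base (okW_spec h)

theorem eq_of_eqW {u v : List ℕ} (h : eqW u v = true) : hw u = hw v := by
  rw [eqW, Bool.and_eq_true, Bool.and_eq_true] at h
  apply Sub.key_inj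
  rw [← wkey_eq h.1.1, ← wkey_eq h.1.2]
  exact Nat.eq_of_beq_eq_true h.2

theorem ne_of_neW {u v : List ℕ} (h : neW u v = true) : hw u ≠ hw v := by
  rw [neW, Bool.and_eq_true, Bool.and_eq_true] at h
  intro e
  have hb := h.2
  rw [wkey_eq h.1.1, wkey_eq h.1.2, e, Nat.beq_refl] at hb
  exact Bool.noConfusion hb

/-- Decode a word over a list of generators. -/
noncomputable def dec (gens : List (List ℕ)) (n : ℕ) : ℕ → List ℕ :=
  Nat.rec (motive := fun _ => ℕ → List ℕ) (fun _ => [])
    (fun _ ih c => forceNat c fun c => gens.getD (c % 8) [] ++ ih (c / 8)) n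

/-- The word `ab`. -/
def X : List ℕ := [2, 3]

/-- Generators of the centraliser of `ab`. -/
def gensC : List (List ℕ) := [[], [5], [6], [7], [1, 3, 1], [0, 6, 1], [2, 3]]

/-- Letters of `⟨a, b, c, d⟩`. -/
def gensA : List (List ℕ) := [[], [], [2], [3], [4], [5]]

/-- The element number `k` of the centraliser. -/
noncomputable def node (k : ℕ) : List ℕ := dec gensC 12 (nodex.get 36 k)

/-- The element number `k` of `⟨a, b, c, d⟩`. -/
noncomputable def aW (k : ℕ) : List ℕ := dec gensA 12 (aListx.get 36 k)

theorem dec_ind {gens : List (List ℕ)} {P : Gp → Prop} (h1 : P 1)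
    (hg : ∀ W ∈ gens, ∀ g, P g → P (hw W * g)) : ∀ n c, P (hw (dec gens n c))
  | 0, _ => h1
  | n + 1, c => by
    have e : dec gens (n + 1) c = gens.getD (c % 8) [] ++ dec gens n (c / 8) := by
      show forceNat c (fun c => gens.getD (c % 8) [] ++ dec gens n (c / 8)) = _
      rw [forceNat_eq]
    rw [e, hw_append]
    by_cases hi : c % 8 < gens.length
    · rw [List.getD_eq_getElem _ _ hi]
      exact hg _ (List.getElem_mem hi) _ (dec_ind h1 hg n _)
    · rw [List.getD_eq_default _ _ (by omega), hw_nil, one_mul]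
      exact dec_ind h1 hg n _

/-- The keys of a family increase. -/
noncomputable def incAt (f : ℕ → List ℕ) (n k : ℕ) : Bool :=
  okW (f k) && (bif Nat.blt (k + 1) n then Nat.blt (wkey (f k)) (wkey (f (k + 1))) else true)

/-- A point counted for the bound on the centraliser. -/
noncomputable def fixB (i : ℕ) : Bool :=
  Nat.beq (Rep.go X i) i && Nat.beq (Rep.olab i) (Rep.olab (Rep.oAPt 0))

/-- A member of `⟨a, b, c, d⟩` is listed if it commutes with `ab`. -/
noncomputable def caAt (k : ℕ) : Bool :=
  neW (aW k ++ X) (X ++ aW k) || caL.any (Nat.beq k)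

/-- An element of order 3 of the centraliser is conjugate to a root. -/
noncomputable def ord3At (k : ℕ) : Bool :=
  neW (repWord (node k) 3) [] || eqW (node k) [] ||
    (forceNat (classx.get 20 k) fun p => Nat.blt (p / 4096) 26 && Nat.blt (p % 4096) 3240 &&
      eqW (iw (node (p % 4096)) ++ node (rootN.getD (p / 4096) 0) ++ node (p % 4096)) (node k))

/-- A root is conjugate to `ab`. -/
noncomputable def rootAt (r : ℕ) : Bool :=
  eqW (node (rootN.getD r 0)) (rootU.getD r [] ++ X ++ iw (rootU.getD r []))

/-- An involution of the centraliser is listed. -/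
noncomputable def invAt (k : ℕ) : Bool :=
  neW (node k ++ node k) [] || eqW (node k) [] || invN.any (Nat.beq k)

/-- The root `r`. -/
noncomputable def tY (r : ℕ) : List ℕ := node (rootN.getD r 0)

/-- The involution `i`. -/
noncomputable def tI (i : ℕ) : List ℕ := node (invN.getD i 0)

/-- The involution `i` of the centraliser of the root `r`. -/
noncomputable def tU (r i : ℕ) : List ℕ := rootU.getD r [] ++ tI i ++ iw (rootU.getD r [])

/-- The images of the letters for a tuple. -/
noncomputable def sigT (r e d a c : ℕ) : List (List ℕ) :=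
  [[], [], tU r a, tU r a ++ X, tU r c, tI d, tI e, tI e ++ tY r]

/-- Substitution of words for letters. -/
def subst (σ : List (List ℕ)) (W : List ℕ) : List ℕ := W.flatMap fun l => σ.getD l []

theorem hw_subst (σ : List (List ℕ)) : ∀ W : List ℕ,
    hw (subst σ W) = evalWord (fun l => hw (σ.getD l [])) W
  | [] => rfl
  | l :: W => by
    show hw (σ.getD l [] ++ subst σ W) = hw (σ.getD l []) * _
    rw [hw_append, hw_subst σ W]

/-- The relations among `a, ..., f` that are tested. -/
def relsH : List (List ℕ) := [[3,4,3,4,3,4], [4,6,4,6], [4,7,4,7], [2,7,5,4,5,4,5,4,5,4],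
  [2,3,2,3,2,3], [2,4,2,4], [2,5,2,5], [2,6,2,6], [2,7,2,7], [3,5,3,5], [3,6,3,6], [3,7,3,7],
  [5,6,5,6,5,6], [5,7,5,7], [6,7,6,7,6,7]]

/-- The letters `a, ..., f` as words. -/
def selW : List (List ℕ) := [[], [], [2], [3], [4], [5], [6], [7]]

/-- A surviving tuple has a witness. -/
noncomputable def witAt (σ : List (List ℕ)) (n : ℕ) : Bool :=
  witL.any fun p => Nat.beq p.1 n && Nat.blt p.2.1 3240 &&
    allRange (fun l => eqW (iw (node p.2.1) ++ σ.getD l [] ++ node p.2.1)
      ((bif p.2.2 then sigO else selW).getD l [])) 2 6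

/-- The scan over the image of `c`. -/
noncomputable def tupC (r e d a c : ℕ) : Bool :=
  neW (tI a ++ tI c ++ tI a ++ tI c) [] ||
    relsH.any (fun W => neW (subst (sigT r e d a c) W) []) ||
    witAt (sigT r e d a c) ((((r * 45 + e) * 45 + d) * 45 + a) * 45 + c)

/-- The scan over the image of `a`. -/
noncomputable def tupA (r e d a : ℕ) : Bool :=
  neW (tU r a ++ X ++ tU r a ++ X) [] || neW (tU r a ++ tI d ++ tU r a ++ tI d) [] ||
    neW (tU r a ++ tI e ++ tU r a ++ tI e) [] || allRange (tupC r e d a) 0 45

/-- The scan over the image of `d`. -/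
noncomputable def tupD (r e d : ℕ) : Bool :=
  neW (tI d ++ (tI e ++ tY r) ++ tI d ++ (tI e ++ tY r)) [] || neW (repWord (tI d ++ tI e) 3) [] ||
    allRange (tupA r e d) 0 45

/-- An involution inverting a root is conjugate to the chosen one, fixing `ab` and the root. -/
noncomputable def redAt (r e : ℕ) : Bool :=
  neW (tI e ++ tY r ++ tI e ++ tY r) [] ||
    forceNat (redx.get 12 (r * 45 + e)) fun q => Nat.blt q 3240 &&
      eqW (node q ++ tY r) (tY r ++ node q) &&
      eqW (iw (node q) ++ tI e ++ node q) (tI (e0L.getD r 0))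

/-- The scan of a root. -/
noncomputable def tupR (r : ℕ) : Bool :=
  allRange (redAt r) 0 45 &&
    (neW (tI (e0L.getD r 0) ++ tY r ++ tI (e0L.getD r 0) ++ tY r) [] ||
      allRange (tupD r (e0L.getD r 0)) 0 45)

/-- A word moving the base point to another orbit of its stabiliser. -/
def T : List ℕ := [0, 3, 0]

/-- The scan for an automorphism fixing `a, ..., f`. -/
noncomputable def fixAt (k : ℕ) : Bool :=
  neW (node k ++ [5]) ([5] ++ node k) || neW (node k ++ [6]) ([6] ++ node k) ||
    neW (repWord (T ++ node k ++ [3, 4, 5]) 6) [] || neW (repWord (T ++ node k ++ [4, 5, 6]) 8) [] ||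
    eqW (node k) []

/-- The outer substitution is not inner. -/
noncomputable def outAt (k : ℕ) : Bool :=
  (List.range 8).any fun l => neW (node k ++ [l] ++ iw (node k)) (sigO.getD l [])

end Cfsg.Agent.CosetEnum.ON.Out
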