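import Cfsg.Agent.SporB.ON.Out.Base

/-!
Scans of the centraliser of `ab`.
-/

set_option autoImplicit false
set_option maxRecDepth 100000

namespace Cfsg.Agent.CosetEnum.ON.Out

theorem gensC_ok : gensC.all (fun W => eqW (W ++ X) (X ++ W)) = true := by decide +kernel

theorem nodes_inc : allRange (incAt node 3240) 0 3240 = true := by decide +kernel

theorem ord3_ok : allRange ord3At 0 3240 = true := by decide +kernel

theorem inv_ok : allRange invAt 0 3240 = true := by decide +kernel

theorem roots_ok : allRange rootAt 0 26 = true := by decide +kernel

theorem fix_ok : allRange fixAt 0 3240 = true := by decide +kernel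

theorem out_ok : allRange outAt 0 3240 = true := by decide +kernel

end Cfsg.Agent.CosetEnum.ON.Out
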