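import Cfsg.Agent.SporB.ON.Out.CheckA
import Cfsg.Agent.SporB.ON.Out.CheckC
import Cfsg.Agent.SporB.ON.Main

/-!
The centraliser of `ab` in the presented O'Nan group.
-/

set_option autoImplicit false
set_option maxRecDepth 100000

namespace Cfsg.Agent.CosetEnum.ON.Out

open OutData

theorem getR {p : ℕ → Bool} {N : ℕ} (h : allRange p 0 N = true) {n : ℕ} (hn : n < N) : p n = true :=
  allRange_spec h n (Nat.zero_le _) (by rwa [Nat.zero_add])

theorem inj_of_inc {f : ℕ → List ℕ} {n : ℕ} (h : ∀ k < n, incAt f n k = true) :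
    (∀ k < n, okW (f k) = true) ∧ Function.Injective fun i : Fin n => hw (f i) := by
  have h' : ∀ k < n, okW (f k) = true ∧ (k + 1 < n → wkey (f k) < wkey (f (k + 1))) := by
    intro k hk
    have e := h k hk
    rw [incAt, Bool.and_eq_true] at e
    refine ⟨e.1, fun h1 => ?_⟩
    have e2 := e.2
    rw [show Nat.blt (k + 1) n = true from Nat.ble_eq_true_of_le h1, cond_true] at e2
    exact Nat.le_of_ble_eq_true e2
  refine ⟨fun k hk => (h' k hk).1, ?_⟩
  have hmono : ∀ i, i < n → ∀ j, j < i → wkey (f j) < wkey (f i) := by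
    intro i
    induction i with
    | zero => intros; omega
    | succ i ih =>
      intro hi j hj
      have h1 := (h' i (by omega)).2 hi
      rcases Nat.lt_succ_iff_lt_or_eq.mp hj with h3 | rfl
      · exact (ih (by omega) j h3).trans h1
      · exact h1
  intro a b he
  have he' : wkey (f a) = wkey (f b) := by
    rw [wkey_eq (h' a a.2).1, wkey_eq (h' b b.2).1]
    exact congrArg Sub.key he
  apply Fin.ext
  rcases lt_trichotomy (a : ℕ) b with c | c | c
  · have := hmono b b.2 a c; omega
  · exact c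
  · have := hmono a a.2 b c; omega

theorem X_ok : okW X = true := rfl

theorem hom_X_apply {i : Pt} : hom (hw X) i = i ↔ Rep.go X i = i := by
  rw [← hom_go (okW_spec X_ok) i]
  exact ⟨fun h => congrArg Fin.val ((Equiv.Perm.inv_eq_iff_eq).2 h.symm),
    fun h => ((Equiv.Perm.inv_eq_iff_eq).1 (Fin.ext h)).symm⟩

theorem X_mem : hw X ∈ stab := by
  rw [mem_stab, hom_X_apply]
  exact Nat.eq_of_beq_eq_true (show Nat.beq (Rep.go X 0) 0 = true by decide +kernel)

theorem olab_H {g : Gp} (hg : g ∈ H) (i : Pt) : Rep.olab ((hom g i : Pt) : ℕ) = Rep.olab i := by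
  revert i
  induction hg using Subgroup.closure_induction with
  | mem y hy =>
    intro i
    obtain ⟨l, hl, rfl⟩ := List.mem_map.mp hy
    have h8 := selH_lt l hl
    rw [hom_val h8, perm_linv h8, perm_apply (linv_lt h8).1]
    have hs : Rep.linv l ∈ selH := (by decide : ∀ l ∈ selH, Rep.linv l ∈ selH) l hl
    exact (orb_ok i).2.1 _ hs
  | one => intro i; rw [map_one]; rfl
  | mul y z _ _ hy hz => intro i; rw [map_mul, Equiv.Perm.mul_apply, hy, hz]
  | inv y _ hy =>
    intro i
    have := hy ((hom y)⁻¹ i)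
    rw [← Equiv.Perm.mul_apply, mul_inv_cancel, Equiv.Perm.one_apply] at this
    rw [map_inv, this]

/-- The pointwise stabiliser of two points. -/
noncomputable def stab2 : Subgroup Gp :=
  stab ⊓ (MulAction.stabilizer (Equiv.Perm Pt) Sub.ptA).comap hom

theorem card_stab2 : Nat.card stab2 ≤ 672 := by
  obtain ⟨p, hp, h1⟩ := list_bound (ls := selH) (by decide) Rep.listA (by norm_num)
  have hpA : p = Sub.ptA := Fin.ext hp
  haveI := finite
  have hH : Nat.card (H.map hom) ≤ 3753792 :=
    (Nat.card_le_card_of_surjective _ (hom.subgroupMap_surjective H)).trans card_H_le.2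
  set A := (Glue.gsub val selH).map hom ⊓ MulAction.stabilizer (Equiv.Perm Pt) p with hA
  have hA' : Nat.card A ≤ 672 := by
    have : 5586 * Nat.card A ≤ 3753792 := h1.trans hH
    omega
  refine le_trans (Nat.card_le_card_of_injective (fun g : stab2 => (⟨hom g.1, ?_, ?_⟩ : A)) ?_) hA'
  · exact Subgroup.mem_map_of_mem _ (show g.1 ∈ H from H_stab.1 ▸ g.2.1)
  · rw [hpA]; exact g.2.2
  · exact fun a b h => Subtype.ext (card_H.2 (congrArg Subtype.val h))

theorem aW_mem (k : ℕ) : hw (aW k) ∈ stab2 := by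
  refine dec_ind (one_mem _) (fun W hW g hg => mul_mem ?_ hg) _ _
  have key : ∀ l, l ∈ [2, 3, 4, 5] → hw [l] ∈ stab2 := by
    intro l hl
    have h8 : l < 8 := (by decide : ∀ l ∈ [2, 3, 4, 5], l < 8) l hl
    rw [hw_single]
    refine ⟨H_le_stab (Subgroup.subset_closure (List.mem_map_of_mem
      ((by decide : ∀ l ∈ [2, 3, 4, 5], l ∈ selH) l hl))), ?_⟩
    show hom (val l) Sub.ptA = Sub.ptA
    rw [hom_val h8, Equiv.Perm.inv_eq_iff_eq]
    apply Fin.ext
    rw [perm_apply h8]
    exact (Nat.eq_of_beq_eq_true (List.all_eq_true.mp Rep.fixA l hl)).symm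
  simp only [gensA, List.mem_cons, List.not_mem_nil, or_false] at hW
  rcases hW with rfl | rfl | rfl | rfl | rfl | rfl
  · exact one_mem _
  · exact one_mem _
  all_goals exact key _ (by decide)

theorem stab2_list {g : Gp} (hg : g ∈ stab2) : ∃ k < 672, g = hw (aW k) := by
  classical
  haveI := finite
  haveI : Fintype Gp := Fintype.ofFinite _
  have hk : ∀ k < 672, incAt aW 672 k = true ∧ caAt k = true := fun k hk => by
    simpa [Bool.and_eq_true] using getR aList_ok hk
  obtain ⟨-, hinj⟩ := inj_of_inc fun k h => (hk k h).1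
  let F : Finset Gp := Finset.univ.filter (· ∈ stab2)
  have hF : F.card ≤ 672 := by
    rw [← Fintype.card_subtype, ← Nat.card_eq_fintype_card]
    exact card_stab2
  have himg : Finset.univ.map ⟨_, hinj⟩ = F := by
    refine Finset.eq_of_subset_of_card_le (fun y hy => ?_) ?_
    · obtain ⟨i, -, rfl⟩ := Finset.mem_map.mp hy
      exact Finset.mem_filter.2 ⟨Finset.mem_univ _, aW_mem i⟩
    · rw [Finset.card_map, Finset.card_univ, Fintype.card_fin]; exact hF
  have hgF : g ∈ F := Finset.mem_filter.2 ⟨Finset.mem_univ _, hg⟩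
  rw [← himg] at hgF
  obtain ⟨i, -, rfl⟩ := Finset.mem_map.mp hgF
  exact ⟨i, i.2, rfl⟩

theorem comm_stab2 {g : Gp} (hg : g ∈ stab2) (hc : g * hw X = hw X * g) :
    g ∈ caL.map fun k => hw (aW k) := by
  obtain ⟨k, hk, rfl⟩ := stab2_list hg
  have h := getR aList_ok hk
  rw [Bool.and_eq_true, caAt, Bool.or_eq_true] at h
  rcases h.2 with h2 | h2
  · exact absurd (by rw [hw_append, hw_append, hc]) (ne_of_neW h2)
  · rw [List.any_eq_true] at h2
    obtain ⟨m, hm, he⟩ := h2
    rw [Nat.eq_of_beq_eq_true he]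
    exact List.mem_map_of_mem hm

/-- The fibres of the orbit map of the stabiliser on conjugates of `ab` are small. -/
theorem cen_stab [Fintype Gp] [DecidableEq Gp] [DecidablePred fun g : Gp => g ∈ H ∧ g * hw X = hw X * g] :
    (Finset.univ.filter fun g : Gp => g ∈ H ∧ g * hw X = hw X * g).card ≤ 72 := by
  classical
  set s := Finset.univ.filter fun g : Gp => g ∈ H ∧ g * hw X = hw X * g with hs
  have hmem : ∀ g ∈ s, g ∈ H ∧ g * hw X = hw X * g := fun g hg => (Finset.mem_filter.1 hg).2
  have h6 : (s.image fun g => hom g Sub.ptA).card ≤ 6 := by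
    have e := ncard_fin_filter 122760 fixB
    rw [fix_orbit] at e
    rw [← e, ← Set.ncard_coe_finset]
    refine Set.ncard_le_ncard ?_ (Set.toFinite _)
    intro i hi
    obtain ⟨g, hg, rfl⟩ := Finset.mem_image.1 hi
    obtain ⟨hH, hc⟩ := hmem g hg
    have hx : hom (hw X) Sub.ptA = Sub.ptA := by
      rw [hom_X_apply]
      exact Nat.eq_of_beq_eq_true (show Nat.beq (Rep.go X (Rep.oAPt 0)) (Rep.oAPt 0) = true by
        decide +kernel)
    show fixB _ = true
    rw [fixB, Bool.and_eq_true]
    refine ⟨?_, ?_⟩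
    · rw [hom_X_apply.1 (show hom (hw X) (hom g Sub.ptA) = hom g Sub.ptA by
        rw [← Equiv.Perm.mul_apply, ← map_mul, ← hc, map_mul, Equiv.Perm.mul_apply, hx])]
      exact Nat.beq_refl _
    · rw [olab_H hH]
      exact Nat.beq_refl _
  have h12 : ∀ b ∈ s.image (fun g => hom g Sub.ptA),
      (s.filter fun g => hom g Sub.ptA = b).card ≤ 12 := by
    intro b hb
    obtain ⟨g₀, hg₀, rfl⟩ := Finset.mem_image.1 hb
    refine le_trans ?_ ((List.toFinset_card_le _).trans
      (show (caL.map fun k => hw (aW k)).length ≤ 12 by rw [List.length_map, ca_length]))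
    refine Finset.card_le_card_of_injOn (fun g => g₀⁻¹ * g) ?_ (fun a _ b _ h => mul_left_cancel h)
    intro g hg
    obtain ⟨hgs, hge⟩ := Finset.mem_filter.1 hg
    obtain ⟨hH, hc⟩ := hmem g hgs
    obtain ⟨hH0, hc0⟩ := hmem g₀ hg₀
    refine Finset.mem_coe.2 (List.mem_toFinset.2 (comm_stab2 ⟨?_, ?_⟩ ?_))
    · show g₀⁻¹ * g ∈ stab
      rw [← H_stab.1]; exact mul_mem (inv_mem hH0) hH
    · show hom (g₀⁻¹ * g) Sub.ptA = Sub.ptA
      rw [map_mul, map_inv, Equiv.Perm.mul_apply, hge]
      exact (hom g₀).symm_apply_apply _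
    · exact ((show Commute g₀ (hw X) from hc0).inv_left.mul_left hc).eq
  exact (Finset.card_le_mul_card_image s 12 h12).trans (Nat.mul_le_mul_left 12 h6)

theorem fix_card [Fintype Gp] {y : Gp} (hy : IsConj (hw X) y) :
    (Finset.univ.filter fun i : Pt => hom y i = i).card = 45 := by
  classical
  obtain ⟨g, rfl⟩ := isConj_iff.1 hy
  have e : (Finset.univ.filter fun i : Pt => hom (hw X) i = i).card = 45 := by
    rw [← fix_total, ← ncard_fin_filter, ← Set.ncard_coe_finset]
    congr 1
    ext i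
    simp only [Finset.coe_filter, Finset.mem_univ, true_and]
    exact hom_X_apply.trans ⟨fun h => show Nat.beq (Rep.go X ↑i) ↑i = true by rw [h]; exact Nat.beq_refl _,
      Nat.eq_of_beq_eq_true⟩
  refine ((congrArg Finset.card ?_).trans (Finset.card_map (hom g).toEmbedding
    (s := Finset.univ.filter fun i : Pt => hom (hw X) i = i))).trans e
  ext i
  simp only [Finset.mem_map, Finset.mem_filter, Finset.mem_univ, true_and, Equiv.coe_toEmbedding]
  constructor
  · intro h
    refine ⟨(hom g)⁻¹ i, ?_, (hom g).apply_symm_apply _⟩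
    rw [map_mul, map_mul, map_inv, Equiv.Perm.mul_apply, Equiv.Perm.mul_apply] at h
    rw [Equiv.Perm.eq_inv_iff_eq]
    exact h
  · rintro ⟨j, hj, rfl⟩
    rw [map_mul, map_mul, map_inv, Equiv.Perm.mul_apply, Equiv.Perm.mul_apply,
      ← Equiv.Perm.mul_apply (hom g)⁻¹, inv_mul_cancel, Equiv.Perm.one_apply, hj]

theorem node_comm (k : ℕ) : hw (node k) * hw X = hw X * hw (node k) := by
  refine dec_ind (P := fun g => g * hw X = hw X * g) (by rw [one_mul, mul_one]) (fun W hW g hg => ?_) _ _
  have h := gensC_ok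
  rw [List.all_eq_true] at h
  have e := eq_of_eqW (h W hW)
  rw [hw_append, hw_append] at e
  exact ((show Commute (hw W) (hw X) from e).mul_left hg).eq

theorem card_cen : Nat.card (Subgroup.centralizer ({hw X} : Set Gp)) = 3240 ∧
    ∀ y : Gp, y * hw X = hw X * y → ∃ k < 3240, y = hw (node k) := by
  classical
  haveI := finite
  haveI : Fintype Gp := Fintype.ofFinite _
  set C := Finset.univ.filter fun g : Gp => g * hw X = hw X * g with hC
  set cls := Finset.univ.image fun g : Gp => g * hw X * g⁻¹ with hcls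
  have hcl : ∀ y ∈ cls, IsConj (hw X) y := fun y hy => by
    obtain ⟨g, -, rfl⟩ := Finset.mem_image.1 hy
    exact isConj_iff.2 ⟨g, rfl⟩
  have hG : Fintype.card Gp = 460815505920 := by rw [← Nat.card_eq_fintype_card, card_eq]
  -- the conjugates fixing the base point
  set F := cls.filter fun y => hom y 0 = 0 with hF
  have hF' : 52136 ≤ F.card := by
    set hs := Finset.univ.filter fun g : Gp => g ∈ H with hhs
    have hn : hs.card = 3753792 := by
      rw [hhs, ← Fintype.card_subtype, ← Nat.card_eq_fintype_card]; exact card_H.1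
    have h := Finset.card_le_mul_card_image hs 72 (f := fun g => g * hw X * g⁻¹) (by
      intro b hb
      obtain ⟨g₀, hg₀, rfl⟩ := Finset.mem_image.1 hb
      refine le_trans ?_ cen_stab
      refine Finset.card_le_card_of_injOn (fun g => g₀⁻¹ * g) ?_ (fun a _ b _ h => mul_left_cancel h)
      intro g hg
      obtain ⟨hgs, hge⟩ := Finset.mem_filter.1 hg
      rw [Finset.mem_coe, Finset.mem_filter]
      refine ⟨Finset.mem_univ _, mul_mem (inv_mem (Finset.mem_filter.1 hg₀).2)
        (Finset.mem_filter.1 hgs).2, ?_⟩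
      calc g₀⁻¹ * g * hw X = g₀⁻¹ * (g * hw X * g⁻¹) * g := by group
        _ = g₀⁻¹ * (g₀ * hw X * g₀⁻¹) * g := by rw [hge]
        _ = hw X * (g₀⁻¹ * g) := by group)
    have hsub : hs.image (fun g => g * hw X * g⁻¹) ⊆ F := by
      intro y hy
      obtain ⟨g, hg, rfl⟩ := Finset.mem_image.1 hy
      refine Finset.mem_filter.2 ⟨Finset.mem_image.2 ⟨g, Finset.mem_univ _, rfl⟩, ?_⟩
      have hgs : g ∈ stab := H_stab.1 ▸ (Finset.mem_filter.1 hg).2
      exact mul_mem (mul_mem hgs X_mem) (inv_mem hgs)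
    have := Finset.card_le_card hsub
    omega
  have hn : ∀ i : Pt, F.card ≤
      (Finset.bipartiteBelow (fun (y : Gp) (i : Pt) => hom y i = i) cls i).card := by
    intro i
    obtain ⟨g, hg⟩ := transitive i
    refine Finset.card_le_card_of_injOn (fun y => g * y * g⁻¹) ?_ (fun a _ b _ h => by simpa using h)
    intro y hy
    rw [Finset.mem_coe, hF, Finset.mem_filter] at hy
    rw [Finset.mem_coe, Finset.mem_bipartiteBelow]
    obtain ⟨k, -, rfl⟩ := Finset.mem_image.1 hy.1
    refine ⟨Finset.mem_image.2 ⟨g * k, Finset.mem_univ _, by group⟩, ?_⟩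
    rw [map_mul, map_mul, map_inv, Equiv.Perm.mul_apply, Equiv.Perm.mul_apply, ← hg,
      ← Equiv.Perm.mul_apply (hom g)⁻¹, inv_mul_cancel, Equiv.Perm.one_apply, hy.2]
  have hsum := Finset.sum_card_bipartiteAbove_eq_sum_card_bipartiteBelow
    (r := fun (y : Gp) (i : Pt) => hom y i = i) (s := cls) (t := (Finset.univ : Finset Pt))
  have hl : ∀ y ∈ cls, (Finset.bipartiteAbove (fun (y : Gp) (i : Pt) => hom y i = i)
      Finset.univ y).card = 45 := fun y hy => fix_card (hcl y hy)
  rw [Finset.sum_congr rfl hl, Finset.sum_const, smul_eq_mul] at hsum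
  have h2 := Finset.card_nsmul_le_sum _ _ _ (fun i (_ : i ∈ (Finset.univ : Finset Pt)) => hn i)
  rw [← hsum, Finset.card_univ, Fintype.card_fin, smul_eq_mul] at h2
  have hmul : cls.card * C.card ≤ 460815505920 := by
    rw [← hG, ← Finset.card_univ, mul_comm]
    refine Finset.mul_card_image_le_card Finset.univ C.card (f := fun g => g * hw X * g⁻¹) ?_
    intro b hb
    obtain ⟨g₀, -, rfl⟩ := Finset.mem_image.1 hb
    refine Finset.card_le_card_of_injOn (fun c => g₀ * c) ?_ (fun a _ b _ h => mul_left_cancel h)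
    intro c hc
    rw [Finset.mem_coe, Finset.mem_filter]
    refine ⟨Finset.mem_univ _, ?_⟩
    have hc' := (Finset.mem_filter.1 hc).2
    calc g₀ * c * hw X * (g₀ * c)⁻¹ = g₀ * (c * hw X) * c⁻¹ * g₀⁻¹ := by group
      _ = g₀ * hw X * g₀⁻¹ := by rw [hc']; group
  obtain ⟨-, hinj⟩ := inj_of_inc fun k hk => getR nodes_inc hk
  have hsub : Finset.univ.map ⟨_, hinj⟩ ⊆ C := by
    intro y hy
    obtain ⟨i, -, rfl⟩ := Finset.mem_map.mp hy
    exact Finset.mem_filter.2 ⟨Finset.mem_univ _, node_comm i⟩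
  have h3240 : 3240 ≤ C.card := by
    have := Finset.card_le_card hsub
    rwa [Finset.card_map, Finset.card_univ, Fintype.card_fin] at this
  have hC' : C.card = 3240 := by
    refine le_antisymm ?_ h3240
    by_contra hlt
    have h4 : cls.card * 3241 ≤ 460815505920 := (Nat.mul_le_mul_left _ (by omega)).trans hmul
    omega
  refine ⟨?_, fun y hy => ?_⟩
  · rw [← hC', hC, Nat.card_eq_fintype_card, Fintype.card_subtype]
    congr 1
    ext g
    simp only [Finset.mem_filter, Finset.mem_univ, true_and, Subgroup.mem_centralizer_singleton_iff]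
  have heq := Finset.eq_of_subset_of_card_le hsub (by
    rw [Finset.card_map, Finset.card_univ, Fintype.card_fin, hC'])
  have hyC : y ∈ C := Finset.mem_filter.2 ⟨Finset.mem_univ _, hy⟩
  rw [← heq] at hyC
  obtain ⟨i, -, rfl⟩ := Finset.mem_map.mp hyC
  exact ⟨i, i.2, rfl⟩

end Cfsg.Agent.CosetEnum.ON.Out
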