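import Cfsg.Agent.SporB.ON.Out.Base

/-!
Counts at the points and in `⟨a, b, c, d⟩`.
-/

set_option autoImplicit false
set_option maxRecDepth 100000

namespace Cfsg.Agent.CosetEnum.ON.Out

theorem fix_total : countBelow (fun i => Nat.beq (Rep.go X i) i) 122760 = 45 := by decide +kernel

theorem fix_orbit : countBelow fixB 122760 = 6 := by decide +kernel

theorem aList_ok : allRange (fun k => incAt aW 672 k && caAt k) 0 672 = true := by decide +kernel

theorem ca_length : OutData.caL.length = 12 := by decide +kernel

end Cfsg.Agent.CosetEnum.ON.Out
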